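import Mathlib
import Groth.Agent.FEtGal.Equalizer

/-!
# Points of finite étale algebras with values in an algebraically closed field
-/

set_option autoImplicit false
set_option linter.style.haveILetI false

universe u

open TensorProduct

noncomputable section

namespace Groth.Agent.SchFinG

variable {R Ω : Type u} [CommRing R] [Field Ω] [Algebra R Ω] [IsAlgClosed Ω]
variable {A B E : Type u} [CommRing A] [CommRing B] [CommRing E] [Algebra R A] [Algebra R B]
  [Algebra R E]

/-- Points extend along injective maps into finite algebras. -/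
theorem exists_extension [Module.Finite R A] (a : E →ₐ[R] A) (ha : Function.Injective a)
    (χ : E →ₐ[R] Ω) : ∃ χ' : A →ₐ[R] Ω, χ'.comp a = χ := by
  letI : Algebra E A := a.toRingHom.toAlgebra
  haveI : IsScalarTower R E A := IsScalarTower.of_algebraMap_eq fun x => (a.commutes x).symm
  haveI : Module.Finite E A := Module.Finite.of_restrictScalars_finite R E A
  haveI : Algebra.IsIntegral E A := Algebra.IsIntegral.of_finite E A
  let p : Ideal E := RingHom.ker χ.toRingHom
  haveI : p.IsPrime := RingHom.ker_isPrime _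
  obtain ⟨Q, -, hQ, hQp⟩ := Ideal.exists_ideal_over_prime_of_isIntegral p (⊥ : Ideal A)
    (by
      intro x hx
      rw [Ideal.mem_comap, Ideal.mem_bot] at hx
      have : x = 0 := ha (hx.trans (map_zero a).symm)
      rw [this]; exact p.zero_mem)
  let D := E ⧸ p
  letI : Algebra D (A ⧸ Q) := (Ideal.quotientMap Q (algebraMap E A) hQp.ge).toAlgebra
  letI : Algebra D Ω := (Ideal.Quotient.lift p χ.toRingHom fun _ h => h).toAlgebra
  have h1 : Function.Injective (algebraMap D (A ⧸ Q)) := Ideal.quotientMap_injective' hQp.le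
  have h2 : Function.Injective (algebraMap D Ω) := RingHom.lift_injective_of_ker_le_ideal _ _ le_rfl
  haveI : IsDomain D := Ideal.Quotient.isDomain p
  haveI : Module.IsTorsionFree D (A ⧸ Q) := Module.isTorsionFree_iff_algebraMap_injective.2 h1
  haveI : Module.IsTorsionFree D Ω := Module.isTorsionFree_iff_algebraMap_injective.2 h2
  haveI : IsScalarTower E D (A ⧸ Q) := IsScalarTower.of_algebraMap_eq fun x => rfl
  haveI : Algebra.IsIntegral E (A ⧸ Q) := ⟨fun z => by
    obtain ⟨z, rfl⟩ := Ideal.Quotient.mk_surjective z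
    exact (Algebra.IsIntegral.isIntegral (R := E) z).map (Ideal.Quotient.mkₐ E Q)⟩
  haveI : Algebra.IsIntegral D (A ⧸ Q) := ⟨fun z => IsIntegral.tower_top (R := E)
    (Algebra.IsIntegral.isIntegral z)⟩
  haveI : Algebra.IsAlgebraic D (A ⧸ Q) := Algebra.IsIntegral.isAlgebraic
  let L : (A ⧸ Q) →ₐ[D] Ω := IsAlgClosed.lift
  have hL : ∀ e : E, L (Ideal.Quotient.mk Q (a e)) = χ e := fun e => by
    have := L.commutes (Ideal.Quotient.mk p e)
    exact this
  refine ⟨⟨L.toRingHom.comp (Ideal.Quotient.mk Q), fun r => ?_⟩, AlgHom.ext hL⟩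
  show L (Ideal.Quotient.mk Q (algebraMap R A r)) = _
  rw [← a.commutes, hL, χ.commutes]

/-- Evaluation of the base change at points. -/
def evFun (z : Ω ⊗[R] A) (χ : A →ₐ[R] Ω) : Ω :=
  Algebra.TensorProduct.lift (AlgHom.id Ω Ω) χ (fun _ _ => Commute.all _ _) z

theorem evFun_map (a : A →ₐ[R] B) (z : Ω ⊗[R] A) (χ : B →ₐ[R] Ω) :
    evFun (FEtGal.bc Ω a z) χ = evFun z (χ.comp a) := by
  have : (Algebra.TensorProduct.lift (AlgHom.id Ω Ω) χ (fun _ _ => Commute.all _ _)).comp
      (FEtGal.bc Ω a) =
      Algebra.TensorProduct.lift (AlgHom.id Ω Ω) (χ.comp a) (fun _ _ => Commute.all _ _) :=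
    Algebra.TensorProduct.ext' fun w x => by simp [FEtGal.bc]
  exact DFunLike.congr_fun this z

theorem exists_split_points [Module.Finite R A] [Algebra.Etale R A] :
    ∃ (n : ℕ) (e : (Ω ⊗[R] A) ≃ₐ[Ω] (Fin n → Ω)) (κ : Fin n ≃ (A →ₐ[R] Ω)),
      ∀ z i, evFun z (κ i) = e z i := by
  obtain ⟨n, ⟨e⟩⟩ := Algebra.IsFiniteSplit.nonempty_algEquiv_fun Ω (Ω ⊗[R] A)
  let f : Fin n → (A →ₐ[R] Ω) := fun i =>
    (((Pi.evalAlgHom Ω (fun _ : Fin n => Ω) i).comp e.toAlgHom).restrictScalars R).comp
      Algebra.TensorProduct.includeRight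
  have hf : ∀ z i, evFun z (f i) = e z i := fun z i => by
    have : Algebra.TensorProduct.lift (AlgHom.id Ω Ω) (f i) (fun _ _ => Commute.all _ _) =
        (Pi.evalAlgHom Ω (fun _ : Fin n => Ω) i).comp e.toAlgHom :=
      Algebra.TensorProduct.ext' fun w x => by
        have hw : e (w ⊗ₜ[R] x) = w • e ((1 : Ω) ⊗ₜ[R] x) := by
          rw [← map_smul, smul_tmul', smul_eq_mul, mul_one]
        simp [f, hw]
    exact DFunLike.congr_fun this z
  refine ⟨n, e, Equiv.ofBijective f ⟨fun i j hij => ?_, fun χ => ?_⟩, hf⟩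
  · classical
    by_contra h
    have := (hf (e.symm (Pi.single i 1)) i).symm.trans ((congrArg _ hij).trans (hf _ j))
    simp [Pi.single_eq_of_ne (Ne.symm h)] at this
  · obtain ⟨i, hi⟩ := FEtGal.exists_eval_of_algHom
      ((Algebra.TensorProduct.lift (AlgHom.id Ω Ω) χ (fun _ _ => Commute.all _ _)).comp e.symm.toAlgHom)
    refine ⟨i, AlgHom.ext fun x => ?_⟩
    have := hi (e ((1 : Ω) ⊗ₜ[R] x))
    simp at this
    simp [f, this]

theorem bijective_evFun [Module.Finite R A] [Algebra.Etale R A] :
    Function.Bijective (evFun (R := R) (Ω := Ω) (A := A)) := by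
  obtain ⟨n, e, κ, h⟩ := exists_split_points (R := R) (Ω := Ω) (A := A)
  refine ⟨fun z z' hz => e.injective (funext fun i => ?_), fun g => ⟨e.symm (g ∘ κ), funext fun χ => ?_⟩⟩
  · rw [← h, ← h, hz]
  · obtain ⟨i, rfl⟩ := κ.surjective χ
    rw [h, AlgEquiv.apply_symm_apply]; rfl

/-- The number of points is the rank. -/
theorem natCard_algHom [Module.Finite R A] [Algebra.Etale R A] (P : PrimeSpectrum R)
    (hP : P.asIdeal = RingHom.ker (algebraMap R Ω)) :
    Nat.card (A →ₐ[R] Ω) = Module.rankAtStalk A P := by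
  obtain ⟨n, e, κ, -⟩ := exists_split_points (R := R) (Ω := Ω) (A := A)
  rw [← Nat.card_congr κ, Nat.card_eq_fintype_card, Fintype.card_fin]
  let b : PrimeSpectrum Ω := ⟨⊥, Ideal.isPrime_bot⟩
  have hb : PrimeSpectrum.comap (algebraMap R Ω) b = P := PrimeSpectrum.ext hP.symm
  have := Module.rankAtStalk_baseChange (R := R) (M := A) b
  rw [hb, Module.rankAtStalk_eq_finrank_of_free] at this
  rw [← this]
  show n = Module.finrank Ω (Ω ⊗[R] A)
  rw [e.toLinearEquiv.finrank_eq, Module.finrank_fintype_fun_eq_card, Fintype.card_fin]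

/-- Points of an equalizer. -/
theorem points_equalizer [Module.Finite R A] [Algebra.Etale R A] [Module.Finite R B]
    [Algebra.Etale R B] (a b : A →ₐ[R] B) :
    (∀ ψ : AlgHom.equalizer a b →ₐ[R] Ω, ∃ χ : A →ₐ[R] Ω, χ.comp (AlgHom.equalizer a b).val = ψ) ∧
      ∀ χ χ' : A →ₐ[R] Ω,
        χ.comp (AlgHom.equalizer a b).val = χ'.comp (AlgHom.equalizer a b).val →
        Relation.EqvGen (fun p q => ∃ η : B →ₐ[R] Ω, η.comp a = p ∧ η.comp b = q) χ χ' := by
  refine ⟨fun ψ => exists_extension _ Subtype.val_injective ψ, fun χ χ' hχ => ?_⟩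
  classical
  let Rel := fun p q : A →ₐ[R] Ω => ∃ η : B →ₐ[R] Ω, η.comp a = p ∧ η.comp b = q
  by_contra hne
  let g : (A →ₐ[R] Ω) → Ω := fun p => if Relation.EqvGen Rel χ p then 1 else 0
  obtain ⟨z, hz⟩ := (bijective_evFun (R := R) (Ω := Ω) (A := A)).2 g
  have heq : FEtGal.bc Ω a z = FEtGal.bc Ω b z := (bijective_evFun (R := R) (Ω := Ω) (A := B)).1 (funext fun η => by
    rw [evFun_map, evFun_map, hz]
    have hrel : Rel (η.comp a) (η.comp b) := ⟨η, rfl, rfl⟩
    show (if _ then (1 : Ω) else 0) = if _ then 1 else 0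
    refine if_congr ⟨fun h => h.trans _ _ _ (.rel _ _ hrel), fun h => h.trans _ _ _ (.symm _ _ (.rel _ _ hrel))⟩ rfl rfl)
  obtain ⟨w, hw⟩ := (FEtGal.equalizer_bc_bijective a b Ω).2 ⟨z, heq⟩
  have hwz : FEtGal.bc Ω (AlgHom.equalizer a b).val w = z :=
    (FEtGal.comp_val a b Ω w).symm.trans (congrArg Subtype.val hw)
  have : g χ = g χ' := by
    rw [← hz, ← hwz, evFun_map, evFun_map, hχ]
  have h0 : g χ' = 0 := if_neg hne
  have h1 : g χ = 1 := if_pos (Relation.EqvGen.refl χ)
  rw [h0, h1] at this
  exact one_ne_zero this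

/-- Points of a product. -/
theorem points_prod :
    Function.Injective (fun χ : A →ₐ[R] Ω => χ.comp (AlgHom.fst R A B)) ∧
    Function.Injective (fun χ : B →ₐ[R] Ω => χ.comp (AlgHom.snd R A B)) ∧
    IsCompl (Set.range (fun χ : A →ₐ[R] Ω => χ.comp (AlgHom.fst R A B)))
      (Set.range (fun χ : B →ₐ[R] Ω => χ.comp (AlgHom.snd R A B))) := by
  refine ⟨fun χ χ' h => AlgHom.ext fun x => DFunLike.congr_fun h (x, 0),
    fun χ χ' h => AlgHom.ext fun x => DFunLike.congr_fun h (0, x), ?_, ?_⟩
  · rw [Set.disjoint_iff_forall_ne]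
    rintro _ ⟨χ, rfl⟩ _ ⟨χ', rfl⟩ h
    have h1 : χ 1 = χ' 0 := DFunLike.congr_fun h ((1 : A), (0 : B))
    rw [map_one, map_zero] at h1
    exact one_ne_zero h1
  · rw [codisjoint_iff, eq_top_iff]
    intro χ _
    have hid : χ (1, 0) * χ (1, 0) = χ (1, 0) := by rw [← map_mul]; simp
    have hsum : χ (1, 0) + χ (0, 1) = 1 := by rw [← map_add]; simp [← Prod.one_eq_mk]
    rcases (IsIdempotentElem.iff_eq_zero_or_one.1 hid).symm with h | h
    · left
      refine ⟨{ toFun := fun x => χ (x, 0), map_one' := h, map_mul' := fun x y => ?_,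
                map_zero' := map_zero χ, map_add' := fun x y => ?_, commutes' := fun r => ?_ }, ?_⟩
      · rw [← map_mul]; simp
      · rw [← map_add]; simp
      · have : ((algebraMap R A r, 0) : A × B) = algebraMap R (A × B) r * (1, 0) := by simp
        rw [this, map_mul, χ.commutes, h, mul_one]
      · refine AlgHom.ext fun p => ?_
        show χ (p.1, 0) = χ p
        have : ((p.1, 0) : A × B) = p * (1, 0) := by ext <;> simp
        rw [this, map_mul, h, mul_one]
    · right
      have h' : χ (0, 1) = 1 := by rwa [h, zero_add] at hsum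
      refine ⟨{ toFun := fun x => χ (0, x), map_one' := h', map_mul' := fun x y => ?_,
                map_zero' := map_zero χ, map_add' := fun x y => ?_, commutes' := fun r => ?_ }, ?_⟩
      · rw [← map_mul]; simp
      · rw [← map_add]; simp
      · have : ((0, algebraMap R B r) : A × B) = algebraMap R (A × B) r * (0, 1) := by simp
        rw [this, map_mul, χ.commutes, h', mul_one]
      · refine AlgHom.ext fun p => ?_
        show χ (0, p.2) = χ p
        have : ((0, p.2) : A × B) = p * (0, 1) := by ext <;> simp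
        rw [this, map_mul, h', mul_one]

theorem bijective_pi_of_injective {L : Type u} [CommRing L] [IsLocalRing L] {n m : ℕ} (h : n = m)
    (f : (Fin n → L) →ₐ[L] (Fin m → L)) (hf : Function.Injective f) : Function.Bijective f := by
  classical
  subst h
  obtain ⟨σ, hσ⟩ := FEtGal.exists_fun_of_algHom f
  have hs : Function.Surjective σ := fun i => by
    by_contra hc
    push Not at hc
    have : f (Pi.single i 1) = 0 := funext fun j => by rw [hσ, Pi.single_eq_of_ne (hc j)]; rfl
    have h1 := congrFun (hf (this.trans (map_zero f).symm)) i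
    simp at h1
  refine ⟨hf, fun y => ⟨fun i => y ((Equiv.ofBijective σ
    ⟨Finite.injective_iff_surjective.2 hs, hs⟩).symm i), funext fun j => ?_⟩⟩
  rw [hσ]
  exact congrArg y (Equiv.ofBijective_symm_apply_apply σ _ j)

/-- An injective map of finite étale algebras of the same rank is bijective. -/
theorem bijective_of_injective_of_rank [Module.Finite R A] [Algebra.Etale R A] [Module.Finite R B]
    [Algebra.Etale R B] (φ : A →ₐ[R] B) (hφ : Function.Injective φ)
    (h : ∀ P : PrimeSpectrum R, Module.rankAtStalk A P = Module.rankAtStalk B P) :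
    Function.Bijective φ := by
  refine ⟨hφ, surjective_of_localized_maximal φ.toLinearMap fun P _ => ?_⟩
  let Am := Localization.AtPrime P
  let A' := Am ⊗[R] A
  let B' := Am ⊗[R] B
  haveI : Module.Flat R Am := IsLocalization.flat Am P.primeCompl
  let φ' : A' →ₐ[Am] B' := Algebra.TensorProduct.map (AlgHom.id Am Am) φ
  have hφ' : Function.Injective φ' :=
    Module.Flat.lTensor_preserves_injective_linearMap φ.toLinearMap hφ
  obtain ⟨L, _, _, _, _, hA, hB⟩ := FEtGal.exists_local_split₂ (A := Am) A' B'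
  let ψ : L ⊗[Am] A' →ₐ[L] L ⊗[Am] B' := FEtGal.bc L φ'
  have hψ : Function.Injective ψ :=
    Module.Flat.lTensor_preserves_injective_linearMap φ'.toLinearMap hφ'
  obtain ⟨n, ⟨eA⟩⟩ := hA.nonempty_algEquiv_fun
  obtain ⟨m, ⟨eB⟩⟩ := hB.nonempty_algEquiv_fun
  have hnm : n = m := by
    obtain ⟨q⟩ : Nonempty (PrimeSpectrum L) := inferInstance
    have e1 := congrFun (Module.rankAtStalk_eq_of_equiv eA.toLinearEquiv) q
    have e2 := congrFun (Module.rankAtStalk_eq_of_equiv eB.toLinearEquiv) q
    rw [Module.rankAtStalk_baseChange, Module.rankAtStalk_baseChange,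
      Module.rankAtStalk_eq_finrank_of_free (M := Fin n → L)] at e1
    rw [Module.rankAtStalk_baseChange, Module.rankAtStalk_baseChange,
      Module.rankAtStalk_eq_finrank_of_free (M := Fin m → L)] at e2
    simp only [Pi.natCast_apply, Module.finrank_fintype_fun_eq_card, Fintype.card_fin,
      Nat.cast_id] at e1 e2
    rw [← e1, ← e2, h]
  have hb : Function.Bijective (eB.toAlgHom.comp (ψ.comp eA.symm.toAlgHom)) :=
    bijective_pi_of_injective hnm _ (eB.injective.comp (hψ.comp eA.symm.injective))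
  have hψs : Function.Surjective ψ := fun y => by
    obtain ⟨x, hx⟩ := hb.2 (eB y)
    exact ⟨eA.symm x, eB.injective hx⟩
  have hs : Function.Surjective φ' :=
    (Module.FaithfullyFlat.lTensor_surjective_iff_surjective Am L φ'.toLinearMap).1 hψs
  intro y
  obtain ⟨x, hx⟩ := hs (LocalizedModule.equivTensorProduct P.primeCompl B y)
  refine ⟨(LocalizedModule.equivTensorProduct P.primeCompl A).symm x, ?_⟩
  apply (LocalizedModule.equivTensorProduct P.primeCompl B).injective
  rw [← hx]
  have key : ((LocalizedModule.equivTensorProduct P.primeCompl B).toLinearMap.comp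
      (LocalizedModule.map P.primeCompl φ.toLinearMap)).comp
      (LocalizedModule.equivTensorProduct P.primeCompl A).symm.toLinearMap = φ'.toLinearMap := by
    refine TensorProduct.AlgebraTensorModule.ext fun s a => ?_
    have e : s ⊗ₜ[R] a = s • ((1 : Am) ⊗ₜ[R] a) := by rw [smul_tmul', smul_eq_mul, mul_one]
    rw [e, map_smul, map_smul]
    congr 1
    rw [LinearMap.comp_apply, LinearMap.comp_apply, LinearEquiv.coe_coe, LinearEquiv.coe_coe,
      LocalizedModule.equivTensorProduct_symm_apply_tmul_one P.primeCompl a]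
    refine (congrArg (LocalizedModule.equivTensorProduct P.primeCompl B)
      (LocalizedModule.map_mk P.primeCompl φ.toLinearMap a 1)).trans ?_
    rw [LocalizedModule.equivTensorProduct_apply_mk, Localization.mk_one]
    rfl
  exact LinearMap.congr_fun key x

end Groth.Agent.SchFinG
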