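import Groth.Agent.SchFinG.Fibre

/-!
# Étale covers of a well-connected schematic finite space form a Galois category
-/

set_option autoImplicit false
set_option linter.style.haveILetI false
set_option backward.isDefEq.respectTransparency false

universe u

open SchFin TensorProduct CategoryTheory CategoryTheory.Limits Opposite

noncomputable section

namespace Groth.Agent.SchFinG

open Groth.Agent.SchFinB

variable {X : RSpace.{u}}

/-- The rank of a cover does not depend on the point and the prime. -/
theorem rank_eq (hwc : X.IsWellConnected) (A : FEt X) (p q : X.pt)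
    (P : PrimeSpectrum (X.ring p)) (Q : PrimeSpectrum (X.ring q)) :
    Module.rankAtStalk (A.obj.carrier p) P = Module.rankAtStalk (A.obj.carrier q) Q := by
  obtain ⟨⟨-, htc⟩, hpw⟩ := (wellConnected_iff (X := X)).1 hwc
  have hsame : ∀ (p : X.pt) (P P' : PrimeSpectrum (X.ring p)),
      Module.rankAtStalk (A.obj.carrier p) P = Module.rankAtStalk (A.obj.carrier p) P' := by
    intro p P P'
    haveI := (A.property.2 p).1
    haveI := (A.property.2 p).2
    haveI : Module.FinitePresentation (X.ring p) (A.obj.carrier p) :=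
      Module.FinitePresentation.of_finite_of_finitePresentation _ _
    haveI : ConnectedSpace (PrimeSpectrum (X.ring p)) := hpw p
    exact (Module.isLocallyConstant_rankAtStalk (R := X.ring p)
      (M := A.obj.carrier p)).apply_eq_of_preconnectedSpace P P'
  have hle : ∀ (p q : X.pt), p ≤ q → ∀ (P : PrimeSpectrum (X.ring p)) (Q : PrimeSpectrum (X.ring q)),
      Module.rankAtStalk (A.obj.carrier p) P = Module.rankAtStalk (A.obj.carrier q) Q := by
    intro p q h P Q
    haveI := (A.property.2 p).1
    haveI := (A.property.2 p).2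
    letI : Algebra (X.ring p) (X.ring q) := (X.res h).toAlgebra
    letI : Module (X.ring p) (A.obj.toMod.carrier q) := Module.compHom _ (X.res h)
    haveI : IsScalarTower (X.ring p) (X.ring q) (A.obj.toMod.carrier q) :=
      IsScalarTower.of_algebraMap_smul fun _ _ => rfl
    let l : A.obj.toMod.carrier p →ₗ[X.ring p] A.obj.toMod.carrier q :=
      { toFun := A.obj.toMod.res h, map_add' := (A.obj.toMod.res h).map_add,
        map_smul' := (A.obj.toMod.res h).map_smulₛₗ }
    have hl : IsBaseChange (X.ring q) l := A.property.1 p q h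
    haveI : Module.Finite (X.ring p) (A.obj.toMod.carrier p) := (A.property.2 p).1
    haveI : Module.Flat (X.ring p) (A.obj.toMod.carrier p) :=
      inferInstanceAs (Module.Flat (X.ring p) (A.obj.carrier p))
    exact (hsame p P _).trans (Module.rankAtStalk_isBaseChange hl Q).symm
  induction htc p q with
  | rel a b hab => exact hle a b hab P Q
  | refl a => exact hsame a P Q
  | symm a b _ ih => exact (ih Q P).symm
  | trans a b c _ _ ih ih' =>
    haveI : ConnectedSpace (PrimeSpectrum (X.ring b)) := hpw b
    obtain ⟨B⟩ : Nonempty (PrimeSpectrum (X.ring b)) := inferInstance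
    exact (ih P B).trans (ih' B Q)

variable {Ω : Type u} [Field Ω] [IsAlgClosed Ω] (ξ : GeomPt X Ω)

/-- The number of points is the rank. -/
theorem natCard_pt (hwc : X.IsWellConnected) (A : FEt X) (p : X.pt)
    (P : PrimeSpectrum (X.ring p)) :
    Nat.card (Pt ξ A) = Module.rankAtStalk (A.obj.carrier p) P := by
  letI := algPt ξ
  haveI := (A.property.2 ξ.base).1
  haveI := (A.property.2 ξ.base).2
  let P₀ : PrimeSpectrum (X.ring ξ.base) :=
    ⟨RingHom.ker (algebraMap (X.ring ξ.base) Ω), RingHom.ker_isPrime _⟩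
  exact (natCard_algHom P₀ rfl).trans (rank_eq hwc A _ _ P₀ P)

theorem bijective_of_injective_of_rank' {A B : FEt X} (f : A ⟶ B)
    (hf : ∀ p, Function.Injective (f.hom.app p))
    (hdeg : ∀ (p : X.pt) (P : PrimeSpectrum (X.ring p)),
      Module.rankAtStalk (A.obj.carrier p) P = Module.rankAtStalk (B.obj.carrier p) P) :
    ∀ p, Function.Bijective (f.hom.app p) := fun p => by
  haveI := (A.property.2 p).1
  haveI := (A.property.2 p).2
  haveI := (B.property.2 p).1
  haveI := (B.property.2 p).2
  exact bijective_of_injective_of_rank (f.hom.app p) (hf p) (hdeg p)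

/-- A pointwise bijective map of covers is an isomorphism. -/
theorem isIso_of_forall_bijective {A B : FEt X} (f : A ⟶ B)
    (hf : ∀ p, Function.Bijective (f.hom.app p)) : IsIso f := by
  let e : ∀ p, A.obj.carrier p ≃ₐ[X.ring p] B.obj.carrier p := fun p =>
    AlgEquiv.ofBijective (f.hom.app p) (hf p)
  let g : B ⟶ A := homMk
    { app := fun p => (e p).symm.toAlgHom
      compat := fun {p q} h b => by
        apply (hf q).1
        refine (compat' f.hom h _).symm.trans ((congrArg _ ((e p).apply_symm_apply b)).trans ?_)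
        exact ((e q).apply_symm_apply _).symm }
  exact ⟨g, fet_hom_ext _ _ fun p a => (e p).symm_apply_apply a,
    fet_hom_ext _ _ fun p b => (e p).apply_symm_apply b⟩

theorem surjective_ptsT_of_injective {A B : FEt X} (f : A ⟶ B)
    (hf : Function.Injective (f.hom.app ξ.base)) : Function.Surjective ((ptsT ξ).map f.op) := by
  letI := algPt ξ
  haveI := (B.property.2 ξ.base).1
  intro (χ : Pt ξ A)
  exact exists_extension (f.hom.app ξ.base) hf χ

theorem injective_ptsT_of_surjective {A B : FEt X} (f : A ⟶ B)
    (hf : Function.Surjective (f.hom.app ξ.base)) : Function.Injective ((ptsT ξ).map f.op) := by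
  letI := algPt ξ
  intro (χ : Pt ξ B) (χ' : Pt ξ B) h
  exact (AlgHom.cancel_right hf).1 h

theorem bijective_of_bijective_ptsT (hX : X.IsSchematic) (hwc : X.IsWellConnected) {A B : FEt X}
    (f : A ⟶ B) (hf : Function.Bijective ((ptsT ξ).map f.op)) :
    ∀ p, Function.Bijective (f.hom.app p) := by
  obtain ⟨Q, g, h, rfl, hg, hh⟩ := exists_factor hX.1 f
  have hcomp : ⇑((ptsT ξ).map (g ≫ h).op) = ((ptsT ξ).map g.op) ∘ ((ptsT ξ).map h.op) := by
    rw [op_comp, Functor.map_comp]; rfl
  rw [hcomp] at hf
  have hbg : Function.Bijective ((ptsT ξ).map g.op) :=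
    ⟨injective_ptsT_of_surjective ξ g (hg _), hf.2.of_comp⟩
  have hbh : Function.Bijective ((ptsT ξ).map h.op) :=
    ⟨hf.1.of_comp, surjective_ptsT_of_injective ξ h (hh _)⟩
  obtain ⟨D, π, ⟨hl⟩⟩ := exists_complement hX.1 g hg
  obtain ⟨-, -, hc⟩ := (Types.binaryCofan_isColimit_iff _).1
    ⟨isColimitMapCoconeBinaryCofanEquiv _ _ _
      (isColimitOfPreserves (ptsT ξ) (isColimitOpFan hl))⟩
  have hD : IsEmpty (Pt ξ D) := ⟨fun χ => by
    obtain ⟨c, hc'⟩ := hbg.2 ((ptsT ξ).map π.op χ)
    exact Set.disjoint_left.1 hc.disjoint ⟨c, hc'⟩ ⟨χ, rfl⟩⟩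
  have hD' : ∀ p, Subsingleton (D.obj.carrier p) := fun p => by
    haveI := (D.property.2 p).1
    haveI := (D.property.2 p).2
    refine (Module.rankAtStalk_eq_zero_iff_subsingleton (R := X.ring p)).1 (funext fun P => ?_)
    rw [← natCard_pt ξ hwc D p P]
    haveI := hD
    exact Nat.card_of_isEmpty
  have hlift := hl
  have hgi : ∀ p, Function.Injective (g.hom.app p) := by
    let e := hlift.conePointUniqueUpToIso (isLimitProdObj Q D)
    intro p a b hab
    have h1 : ∀ c, (e.hom.hom.app p c).1 = g.hom.app p c := fun c =>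
      congrArg (fun m : A ⟶ Q => m.hom.app p c)
        (hlift.conePointUniqueUpToIso_hom_comp (isLimitProdObj Q D) ⟨.left⟩)
    have hinv : ∀ c, e.inv.hom.app p (e.hom.hom.app p c) = c := fun c =>
      congrArg (fun m : A ⟶ A => m.hom.app p c) e.hom_inv_id
    haveI := hD' p
    rw [← hinv a, ← hinv b]
    exact congrArg _ (Prod.ext ((h1 a).trans (hab.trans (h1 b).symm)) (Subsingleton.elim _ _))
  have hhb := bijective_of_injective_of_rank' h hh fun p P => by
    rw [← natCard_pt ξ hwc Q p P, ← natCard_pt ξ hwc B p P]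
    exact (Nat.card_congr (Equiv.ofBijective _ hbh)).symm
  exact fun p => (hhb p).comp ⟨hgi p, hg p⟩

theorem reflectsIsomorphisms_fibFunctor (hX : X.IsSchematic) (hwc : X.IsWellConnected) :
    ξ.fibFunctor.ReflectsIsomorphisms where
  reflects {A B} f _ := by
    haveI : IsIso ((pts ξ).map f) := (NatIso.isIso_map_iff (ptsIso ξ) f).2 inferInstance
    haveI : IsIso ((ptsT ξ).map f) :=
      inferInstanceAs (IsIso (FintypeCat.incl.map ((pts ξ).map f)))
    haveI := isIso_of_forall_bijective f.unop
      (bijective_of_bijective_ptsT ξ hX hwc f.unop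
        ((isIso_iff_bijective _).1 (inferInstanceAs (IsIso ((ptsT ξ).map f)))))
    exact inferInstanceAs (IsIso f.unop.op)

/-- Every finite group is a one-object category equivalent to a finite one. -/
theorem singleObj_equiv (G : Type u) [Group G] [Finite G] :
    ∃ (J : Type) (_ : SmallCategory J) (_ : FinCategory J), Nonempty (J ≌ SingleObj G) := by
  obtain ⟨G', hg, hf, ⟨e⟩⟩ := Finite.exists_type_univ_nonempty_mulEquiv.{u, 0} G
  exact ⟨SingleObj G', inferInstance, inferInstance, ⟨e.toSingleObjEquiv.symm⟩⟩

theorem preGaloisCategory (hX : X.IsSchematic)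
    (hepi : ∀ (A B : FEt X) (f : A ⟶ B), Epi f → ∀ p : X.pt, Function.Surjective (f.hom.app p)) :
    PreGaloisCategory (FEt X)ᵒᵖ where
  hasTerminal := IsTerminal.hasTerminal (isInitialStr X).op
  hasQuotientsByFiniteGroups G _ _ := by
    obtain ⟨J, _, _, ⟨e⟩⟩ := singleObj_equiv G
    exact hasColimitsOfShape_of_equivalence e
  monoInducesIsoOnDirectSummand {A B} i hi := by
    haveI : Epi i.unop := inferInstance
    obtain ⟨D, π, ⟨hl⟩⟩ := exists_complement hX.1 i.unop (hepi _ _ i.unop inferInstance)
    exact ⟨op D, π.op, ⟨isColimitOpFan hl⟩⟩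

theorem fiberFunctor (hX : X.IsSchematic) (hwc : X.IsWellConnected)
    (hepi : ∀ (A B : FEt X) (f : A ⟶ B), Epi f → ∀ p : X.pt, Function.Surjective (f.hom.app p)) :
    @PreGaloisCategory.FiberFunctor _ _ (preGaloisCategory hX hepi) ξ.fibFunctor := by
  letI := preGaloisCategory hX hepi
  exact {
    preservesQuotientsByFiniteGroups := fun G _ _ => by
      obtain ⟨J, _, _, ⟨e⟩⟩ := singleObj_equiv G
      exact preservesColimitsOfShape_of_equiv e _
    reflectsIsos := reflectsIsomorphisms_fibFunctor ξ hX hwc }

end Groth.Agent.SchFinG
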