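import Groth.Agent.SchFinG.Limits
import Groth.Agent.SchFinG.Points
import Groth.Agent.SchFinB.Schematic

/-!
# The fibre functor of étale covers of a finite ringed poset at a geometric point
-/

set_option autoImplicit false
set_option linter.style.haveILetI false
set_option backward.isDefEq.respectTransparency false

universe u

open SchFin TensorProduct CategoryTheory CategoryTheory.Limits Opposite

noncomputable section

namespace Groth.Agent.SchFinG

open Groth.Agent.SchFinB

variable {X : RSpace.{u}}

/-- A cover evaluated at a point, as a finite étale algebra. -/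
def evalObj (A : FEt X) (x : X.pt) : CommAlgCat.FiniteEtale.{u} (X.ring x) :=
  haveI := (A.property.2 x).1
  haveI := (A.property.2 x).2
  CommAlgCat.FiniteEtale.of (X.ring x) (A.obj.carrier x)

/-- Evaluation of covers at a point. -/
def evalAt (x : X.pt) : FEt X ⥤ CommAlgCat.FiniteEtale.{u} (X.ring x) where
  obj A := evalObj A x
  map f := ObjectProperty.homMk (CommAlgCat.ofHom (f.hom.app x))
  map_id _ := rfl
  map_comp _ _ := rfl

variable {Ω : Type u} [Field Ω] [IsAlgClosed Ω] (ξ : GeomPt X Ω)

/-- The field as an algebra over the ring of the base point. -/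
abbrev algPt : Algebra (X.ring ξ.base) Ω := ξ.toField.toAlgebra

/-- The points of covers with values in the field. -/
def pts : (FEt X)ᵒᵖ ⥤ FintypeCat.{u} :=
  letI := algPt ξ
  (evalAt ξ.base).op ⋙ CommAlgCat.FiniteEtale.fiber (X.ring ξ.base) Ω

/-- The fibre functor is given by points. -/
def ptsIso : pts ξ ≅ ξ.fibFunctor :=
  letI := algPt ξ
  Functor.isoWhiskerLeft (evalAt ξ.base).op
      (CommAlgCat.FiniteEtale.fiberIsoComp (R := X.ring ξ.base) Ω) ≪≫
    NatIso.ofComponents (fun _ => Iso.refl _) (fun _ => rfl)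

/-- The points as types. -/
abbrev ptsT : (FEt X)ᵒᵖ ⥤ Type u := pts ξ ⋙ FintypeCat.incl

/-- The type of points of a cover. -/
abbrev Pt (A : FEt X) : Type u :=
  letI := algPt ξ
  A.obj.carrier ξ.base →ₐ[X.ring ξ.base] Ω

theorem ptsT_map {A B : FEt X} (f : A ⟶ B) (χ : Pt ξ B) :
    letI := algPt ξ
    (ptsT ξ).map f.op χ = (χ.comp (f.hom.app ξ.base) : Pt ξ A) := rfl

theorem pt_finite (A : FEt X) : Finite (Pt ξ A) :=
  ((pts ξ).obj (op A)).property

/-! ## Limits in the opposite category -/

section Types

variable {P Q S : Type u} (a b : P ⟶ Q) (π : Q ⟶ S)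

theorem isColimit_cofork_types (w : a ≫ π = b ≫ π) (hs : Function.Surjective π)
    (hk : ∀ z z', π z = π z' → Relation.EqvGen (fun p q => ∃ η, a η = p ∧ b η = q) z z') :
    Nonempty (IsColimit (Cofork.ofπ π w)) := by
  have key : ∀ (s : Cofork a b) (p q : Q),
      Relation.EqvGen (fun p q => ∃ η, a η = p ∧ b η = q) p q → s.π p = s.π q := by
    intro s p q h
    induction h with
    | rel p q hpq =>
      obtain ⟨η, rfl, rfl⟩ := hpq
      exact ConcreteCategory.congr_hom s.condition η
    | refl => rfl
    | symm _ _ _ ih => exact ih.symm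
    | trans _ _ _ _ _ ih ih' => exact ih.trans ih'
  refine ⟨Cofork.IsColimit.mk _ (fun s => ↾fun z => s.π (Function.surjInv hs z)) (fun s => ?_)
    (fun s m hm => ?_)⟩
  · refine ConcreteCategory.hom_ext _ _ fun z => ?_
    exact key s _ _ (hk _ _ (Function.surjInv_eq hs (π z)))
  · refine ConcreteCategory.hom_ext _ _ fun z => ?_
    obtain ⟨y, rfl⟩ := hs z
    exact (ConcreteCategory.congr_hom hm y).trans
      (key s _ _ (hk _ _ (Function.surjInv_eq hs (π y)))).symm

end Types

/-- A limit fan gives a colimit cofan in the opposite category. -/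
def isColimitOpFan {A B D : FEt X} {f : A ⟶ B} {π : A ⟶ D}
    (h : IsLimit (BinaryFan.mk f π)) : IsColimit (BinaryCofan.mk f.op π.op) :=
  BinaryCofan.IsColimit.mk _
    (fun {T} a b => (h.lift (BinaryFan.mk a.unop b.unop)).op)
    (fun {T} a b => Quiver.Hom.unop_inj (h.fac (BinaryFan.mk a.unop b.unop) ⟨.left⟩))
    (fun {T} a b => Quiver.Hom.unop_inj (h.fac (BinaryFan.mk a.unop b.unop) ⟨.right⟩))
    fun {T} a b m h₁ h₂ => Quiver.Hom.unop_inj <| BinaryFan.IsLimit.hom_ext h
      ((congrArg Quiver.Hom.unop h₁).trans (h.fac (BinaryFan.mk a.unop b.unop) ⟨.left⟩).symm)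
      ((congrArg Quiver.Hom.unop h₂).trans (h.fac (BinaryFan.mk a.unop b.unop) ⟨.right⟩).symm)

/-- The equalizer gives a coequalizer in the opposite category. -/
def isColimitOpEq {A B : FEt X} (a b : A ⟶ B) :
    IsColimit (Cofork.ofπ (f := a.op) (g := b.op) (eqObjι a b).op
      (by rw [← op_comp, ← op_comp, eqObjι_condition])) :=
  Cofork.IsColimit.mk _
    (fun s => (Fork.IsLimit.lift (isLimitEqObj a b) s.π.unop
      (congrArg Quiver.Hom.unop s.condition)).op)
    (fun s => Quiver.Hom.unop_inj
      (Fork.IsLimit.lift_ι' (isLimitEqObj a b) s.π.unop (congrArg Quiver.Hom.unop s.condition)))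
    fun s m hm => Quiver.Hom.unop_inj <| Fork.IsLimit.hom_ext (isLimitEqObj a b)
      ((congrArg Quiver.Hom.unop hm).trans
        (Fork.IsLimit.lift_ι' (isLimitEqObj a b) s.π.unop (congrArg Quiver.Hom.unop s.condition)).symm)

/-! ## Exactness of the points -/

instance preservesTerminal_ptsT : PreservesLimitsOfShape (Discrete PEmpty.{1}) (ptsT ξ) := by
  haveI : PreservesLimit (Functor.empty.{0} (FEt X)ᵒᵖ) (ptsT ξ) := by
    refine preservesLimit_of_preserves_limit_cone ((isInitialStr X).op)
      ((isLimitMapConeEmptyConeEquiv (ptsT ξ) _).symm ((Types.isTerminalEquivUnique _).symm ?_))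
    letI := algPt ξ
    exact { default := (Algebra.ofId (X.ring ξ.base) Ω : Pt ξ (strObj X))
            uniq := fun (χ : Pt ξ (strObj X)) => AlgHom.ext fun r => χ.commutes r }
  exact preservesLimitsOfShape_pempty_of_preservesTerminal _

theorem isPullback_ptsT {A B C : FEt X} (f : C ⟶ A) (g : C ⟶ B) :
    IsPullback ((ptsT ξ).map (pushInr f g).op) ((ptsT ξ).map (pushInl f g).op)
      ((ptsT ξ).map g.op) ((ptsT ξ).map f.op) := by
  letI := algPt ξ
  refine (Types.isPullback_iff _ _ _ _).2 ⟨?_, fun d d' h => ?_, fun b a h => ?_⟩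
  · rw [← Functor.map_comp, ← Functor.map_comp, ← op_comp, ← op_comp, pushCondition]
  · exact tens_hom_ext f g ξ.base d d' h.2 h.1
  · obtain ⟨d, h1, h2⟩ := exists_tens_desc f g ξ.base (a : Pt ξ A) (b : Pt ξ B)
      fun c => (DFunLike.congr_fun (show (b : Pt ξ B).comp (g.hom.app ξ.base) =
        (a : Pt ξ A).comp (f.hom.app ξ.base) from h) c).symm
    exact ⟨d, h2, h1⟩

instance preservesPullbacks_ptsT : PreservesLimitsOfShape WalkingCospan (ptsT ξ) :=
  ⟨fun {K} => by
    let a := K.map WalkingCospan.Hom.inl
    let b := K.map WalkingCospan.Hom.inr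
    have h : IsPullback (pushInr b.unop a.unop).op (pushInl b.unop a.unop).op a b :=
      (isPushout_pushObj b.unop a.unop).op
    haveI : PreservesLimit (cospan a b) (ptsT ξ) :=
      preservesLimit_of_preserves_limit_cone h.isLimit
        ((isLimitMapConePullbackConeEquiv (ptsT ξ) h.w).symm
          (isPullback_ptsT ξ b.unop a.unop).isLimit)
    exact preservesLimit_of_iso_diagram _ (diagramIsoCospan K).symm⟩

instance preservesInitial_ptsT : PreservesColimitsOfShape (Discrete PEmpty.{1}) (ptsT ξ) := by
  haveI : PreservesColimit (Functor.empty.{0} (FEt X)ᵒᵖ) (ptsT ξ) := by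
    refine preservesColimit_of_preserves_colimit_cocone ((isTerminalZero X).op)
      ((isColimitMapCoconeEmptyCoconeEquiv (ptsT ξ) _).symm
        ((Types.initial_iff_empty _).2 ?_).some)
    letI := algPt ξ
    refine ⟨fun (χ : Pt ξ (zeroObj X)) => ?_⟩
    exact zero_ne_one ((map_zero χ).symm.trans
      ((congrArg χ (Subsingleton.elim (α := PUnit.{u + 1}) _ _)).trans (map_one χ)))
  exact preservesColimitsOfShape_pempty_of_preservesInitial _

instance preservesBinaryCoproducts_ptsT :
    PreservesColimitsOfShape (Discrete WalkingPair) (ptsT ξ) :=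
  ⟨fun {K} => by
    haveI : PreservesColimit (pair (K.obj ⟨.left⟩) (K.obj ⟨.right⟩)) (ptsT ξ) := by
      refine preservesColimit_of_preserves_colimit_cocone
        (isColimitOpFan (isLimitProdObj (K.obj ⟨.left⟩).unop (K.obj ⟨.right⟩).unop))
        ((isColimitMapCoconeBinaryCofanEquiv _ _ _).symm ?_)
      letI := algPt ξ
      obtain ⟨h1, h2, h3⟩ := points_prod (R := X.ring ξ.base) (Ω := Ω)
        (A := (K.obj ⟨.left⟩).unop.obj.carrier ξ.base) (B := (K.obj ⟨.right⟩).unop.obj.carrier ξ.base)
      refine ((Types.binaryCofan_isColimit_iff _).2 ⟨?_, ?_, ?_⟩).some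
      exacts [h1, h2, h3]
    exact preservesColimit_of_iso_diagram _ (diagramIsoPair K).symm⟩

instance preservesFiniteCoproducts_ptsT : PreservesFiniteCoproducts (ptsT ξ) :=
  ⟨fun n => preservesShape_fin_of_preserves_binary_and_initial _ n⟩

instance preservesCoequalizers_ptsT : PreservesColimitsOfShape WalkingParallelPair (ptsT ξ) :=
  ⟨fun {K} => by
    let a := (K.map WalkingParallelPairHom.left).unop
    let b := (K.map WalkingParallelPairHom.right).unop
    haveI : PreservesColimit (parallelPair (K.map WalkingParallelPairHom.left)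
        (K.map WalkingParallelPairHom.right)) (ptsT ξ) := by
      letI := algPt ξ
      refine preservesColimit_of_preserves_colimit_cocone (isColimitOpEq a b)
        ((isColimitMapCoconeCoforkEquiv (ptsT ξ) _).symm ?_)
      haveI := ((K.obj .one).unop.property.2 ξ.base).1
      haveI := ((K.obj .one).unop.property.2 ξ.base).2
      haveI := ((K.obj .zero).unop.property.2 ξ.base).1
      haveI := ((K.obj .zero).unop.property.2 ξ.base).2
      obtain ⟨hs, hk⟩ := points_equalizer (Ω := Ω) (a.hom.app ξ.base) (b.hom.app ξ.base)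
      refine (isColimit_cofork_types _ _ _ _ ?_ ?_).some
      exacts [hs, hk]
    exact preservesColimit_of_iso_diagram _ (diagramIsoParallelPair K).symm⟩

instance preservesFiniteColimits_ptsT : PreservesFiniteColimits (ptsT ξ) :=
  preservesFiniteColimits_of_preservesCoequalizers_and_finiteCoproducts _

instance preservesFiniteLimits_ptsT : PreservesFiniteLimits (ptsT ξ) := by
  haveI : HasTerminal (FEt X)ᵒᵖ := IsTerminal.hasTerminal (isInitialStr X).op
  exact preservesFiniteLimits_of_preservesTerminal_and_pullbacks _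

instance preservesFiniteColimits_fibFunctor : PreservesFiniteColimits ξ.fibFunctor := by
  haveI : PreservesFiniteColimits (pts ξ) :=
    preservesFiniteColimits_of_reflects_of_preserves (pts ξ) FintypeCat.incl
  exact preservesFiniteColimits_of_natIso (ptsIso ξ)

instance preservesFiniteLimits_fibFunctor : PreservesFiniteLimits ξ.fibFunctor := by
  haveI : PreservesFiniteLimits (pts ξ) :=
    preservesFiniteLimits_of_reflects_of_preserves (pts ξ) FintypeCat.incl
  exact preservesFiniteLimits_of_natIso (ptsIso ξ)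

end Groth.Agent.SchFinG
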