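import Groth.Agent.SchFinB.Pushout
import Groth.Agent.FEtGal.Equalizer

/-!
# Explicit finite limits and colimits of étale covers of a finite ringed poset
-/

set_option autoImplicit false
set_option linter.style.haveILetI false
set_option backward.isDefEq.respectTransparency false

universe u

open SchFin TensorProduct CategoryTheory CategoryTheory.Limits

noncomputable section

namespace Groth.Agent.SchFinG

open Groth.Agent.SchFinB

variable {X : RSpace.{u}}

/-! ## Equalizers -/

section Equalizer

variable {A B : Alg X} (f g : A ⟶ B)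

theorem res_mem_equalizer {p q : X.pt} (h : p ≤ q) (x : AlgHom.equalizer (f.app p) (g.app p)) :
    A.res h x.1 ∈ AlgHom.equalizer (f.app q) (g.app q) := by
  rw [AlgHom.mem_equalizer, ← compat' f h, ← compat' g h, x.2]

/-- The pointwise equalizer of two maps of algebras. -/
def eqAlg : Alg X where
  carrier p := AlgHom.equalizer (f.app p) (g.app p)
  res {p q} h := ((A.res h).comp (AlgHom.equalizer (f.app p) (g.app p)).val.toRingHom).codRestrict
    (AlgHom.equalizer (f.app q) (g.app q)).toSubring fun x => res_mem_equalizer f g h x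
  res_algebraMap h a := Subtype.ext (A.res_algebraMap h a)
  res_self p b := Subtype.ext (A.res_self p b.1)
  res_comp h h' b := Subtype.ext (A.res_comp h h' b.1)

/-- The inclusion of the equalizer. -/
def eqι : eqAlg f g ⟶ A :=
  { app := fun p => (AlgHom.equalizer (f.app p) (g.app p)).val
    compat := fun _ _ => rfl }

theorem eq_isEtCover (hA : A.IsEtCover) (hB : B.IsEtCover) : (eqAlg f g).IsEtCover := by
  refine ⟨fun p q h => ?_, fun p => ?_⟩
  · haveI := (hA.2 p).1
    haveI := (hA.2 p).2
    haveI := (hB.2 p).1
    haveI := (hB.2 p).2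
    letI : Algebra (X.ring p) (X.ring q) := (X.res h).toAlgebra
    letI : Module (X.ring p) (A.carrier q) := Module.compHom _ (X.res h)
    letI : Module (X.ring p) (B.carrier q) := Module.compHom _ (X.res h)
    haveI : IsScalarTower (X.ring p) (X.ring q) (A.carrier q) :=
      IsScalarTower.of_algebraMap_smul fun _ _ => rfl
    haveI : IsScalarTower (X.ring p) (X.ring q) (B.carrier q) :=
      IsScalarTower.of_algebraMap_smul fun _ _ => rfl
    let lA : A.carrier p →ₗ[X.ring p] A.carrier q :=
      { toFun := A.toMod.res h, map_add' := (A.toMod.res h).map_add,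
        map_smul' := (A.toMod.res h).map_smulₛₗ }
    let lB : B.carrier p →ₗ[X.ring p] B.carrier q :=
      { toFun := B.toMod.res h, map_add' := (B.toMod.res h).map_add,
        map_smul' := (B.toMod.res h).map_smulₛₗ }
    have hlA : IsBaseChange (X.ring q) lA := hA.1 p q h
    have hlB : IsBaseChange (X.ring q) lB := hB.1 p q h
    have hcomm : ∀ (k : A ⟶ B) z,
        hlB.equiv (FEtGal.bc (X.ring q) (k.app p) z) = k.app q (hlA.equiv z) := fun k z => by
      induction z using TensorProduct.induction_on with
      | zero => simp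
      | tmul s a =>
        show hlB.equiv (s ⊗ₜ[X.ring p] k.app p a) = _
        rw [hlB.equiv_tmul, hlA.equiv_tmul, map_smul]
        exact congrArg (s • ·) (compat' k h a)
      | add z w hz hw => simp only [map_add, hz, hw]
    let ι := (AlgHom.equalizer (f.app p) (g.app p)).val
    have hmem : ∀ z, hlA.equiv (FEtGal.bc (X.ring q) ι z) ∈
        Subalgebra.toSubmodule (AlgHom.equalizer (f.app q) (g.app q)) := fun z => by
      show _ ∈ AlgHom.equalizer (f.app q) (g.app q)
      rw [AlgHom.mem_equalizer, ← hcomm, ← hcomm, ← FEtGal.comp_val]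
      exact congrArg _ (FEtGal.comp (f.app p) (g.app p) (X.ring q) z).2
    let T : X.ring q ⊗[X.ring p] (eqAlg f g).carrier p →ₗ[X.ring q] (eqAlg f g).carrier q :=
      LinearMap.codRestrict (Subalgebra.toSubmodule (AlgHom.equalizer (f.app q) (g.app q)))
        (hlA.equiv.toLinearMap.comp (FEtGal.bc (X.ring q) ι).toLinearMap) hmem
    have hb := FEtGal.equalizer_bc_bijective (f.app p) (g.app p) (X.ring q)
    have hT : Function.Bijective T := by
      refine ⟨fun z z' hz => hb.1 (Subtype.ext ?_), fun y => ?_⟩
      · rw [FEtGal.comp_val, FEtGal.comp_val]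
        exact hlA.equiv.injective
          (congrArg (fun w : AlgHom.equalizer (f.app q) (g.app q) => w.1) hz)
      · obtain ⟨z, hz⟩ := hb.2 ⟨hlA.equiv.symm y.1, by
          rw [AlgHom.mem_equalizer]
          apply hlB.equiv.injective
          rw [hcomm, hcomm, LinearEquiv.apply_symm_apply]
          exact y.2⟩
        refine ⟨z, Subtype.ext ?_⟩
        show hlA.equiv (FEtGal.bc (X.ring q) ι z) = y.1
        rw [← FEtGal.comp_val, hz, LinearEquiv.apply_symm_apply]
    letI : Module (X.ring p) ((eqAlg f g).toMod.carrier q) := Module.compHom _ (X.res h)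
    haveI : IsScalarTower (X.ring p) (X.ring q) ((eqAlg f g).toMod.carrier q) :=
      IsScalarTower.of_algebraMap_smul fun _ _ => rfl
    refine IsBaseChange.of_equiv (LinearEquiv.ofBijective T hT) fun x => Subtype.ext ?_
    show hlA.equiv ((1 : X.ring q) ⊗ₜ[X.ring p] x.1) = A.res h x.1
    rw [hlA.equiv_tmul, one_smul]
    rfl
  · haveI := (hA.2 p).1
    haveI := (hA.2 p).2
    haveI := (hB.2 p).1
    haveI := (hB.2 p).2
    exact ⟨FEtGal.finite_equalizer (f.app p) (g.app p), FEtGal.etale_equalizer (f.app p) (g.app p)⟩

end Equalizer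

variable {A B C : FEt X}

/-- The equalizer cover. -/
def eqObj (f g : A ⟶ B) : FEt X := ⟨eqAlg f.hom g.hom, eq_isEtCover f.hom g.hom A.2 B.2⟩

/-- The inclusion of the equalizer cover. -/
def eqObjι (f g : A ⟶ B) : eqObj f g ⟶ A := homMk (eqι f.hom g.hom)

theorem eqObjι_condition (f g : A ⟶ B) : eqObjι f g ≫ f = eqObjι f g ≫ g :=
  fet_hom_ext _ _ fun _ x => x.2

/-- Equalizers of covers. -/
def isLimitEqObj (f g : A ⟶ B) :
    IsLimit (Fork.ofι (eqObjι f g) (eqObjι_condition f g)) :=
  Fork.IsLimit.mk _
    (fun s => homMk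
      { app := fun p => (s.ι.hom.app p).codRestrict (AlgHom.equalizer (f.hom.app p) (g.hom.app p))
          fun c => congrArg (fun m : s.pt ⟶ B => m.hom.app p c) s.condition
        compat := fun h c => Subtype.ext (compat' s.ι.hom h c) })
    (fun _ => fet_hom_ext _ _ fun _ _ => rfl)
    (fun s m hm => fet_hom_ext _ _ fun p c => Subtype.ext
      (congrArg (fun k : s.pt ⟶ A => k.hom.app p c) hm))

instance hasEqualizers : HasEqualizers (FEt X) := by
  haveI : ∀ {A B : FEt X} {f g : A ⟶ B}, HasLimit (parallelPair f g) := fun {A B f g} =>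
    ⟨⟨⟨_, isLimitEqObj f g⟩⟩⟩
  exact hasEqualizers_of_hasLimit_parallelPair _

/-! ## Terminal object and products -/

/-- The zero cover. -/
def zeroObj (X : RSpace.{u}) : FEt X := ⟨zeroAlg X, zero_isEtCover⟩

/-- The zero cover is terminal. -/
def isTerminalZero (X : RSpace.{u}) : IsTerminal (zeroObj X) :=
  IsTerminal.ofUniqueHom
    (fun A => homMk
      { app := fun p =>
          { toFun := fun _ => PUnit.unit
            map_one' := rfl
            map_mul' := fun _ _ => rfl
            map_zero' := rfl
            map_add' := fun _ _ => rfl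
            commutes' := fun _ => rfl }
        compat := fun _ _ => rfl })
    fun A m => fet_hom_ext _ _ fun p a => Subsingleton.elim (α := PUnit.{u + 1}) _ _

/-- The product of two covers. -/
def prodObj (A B : FEt X) : FEt X := ⟨prodAlg A.obj B.obj, prod_isEtCover A.2 B.2⟩

/-- The first projection. -/
def prodObjFst (A B : FEt X) : prodObj A B ⟶ A := homMk (prodFst A.obj B.obj)

/-- The second projection. -/
def prodObjSnd (A B : FEt X) : prodObj A B ⟶ B := homMk (prodSnd A.obj B.obj)

/-- Products of covers. -/
def isLimitProdObj (A B : FEt X) : IsLimit (BinaryFan.mk (prodObjFst A B) (prodObjSnd A B)) :=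
  (nonempty_isLimit_fan (A := prodObj A B) (prodObjFst A B) (prodObjSnd A B)
    fun _ => Function.bijective_id).some

instance hasFiniteProducts : HasFiniteProducts (FEt X) := by
  haveI := IsTerminal.hasTerminal (isTerminalZero X)
  haveI : HasBinaryProducts (FEt X) := SchFinB.hasBinaryProducts
  exact hasFiniteProducts_of_has_binary_and_terminal

instance hasFiniteLimits : HasFiniteLimits (FEt X) :=
  hasFiniteLimits_of_hasEqualizers_and_finite_products

/-! ## Initial object and pushouts -/

/-- The structure sheaf as a cover. -/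
def strObj (X : RSpace.{u}) : FEt X := ⟨Alg.str X, str_isEtCover⟩

/-- The structure sheaf is initial. -/
def isInitialStr (X : RSpace.{u}) : IsInitial (strObj X) :=
  IsInitial.ofUniqueHom (fun A => homMk (fromStr A.obj))
    fun A m => ObjectProperty.hom_ext _ (fromStr_unique m.hom)

variable (f : C ⟶ A) (g : C ⟶ B)

/-- The tensor product cover. -/
def pushObj : FEt X := ⟨tensAlg f.hom g.hom, tens_isEtCover A.2 B.2 C.2 f.hom g.hom⟩

attribute [local instance] Algebra.TensorProduct.rightAlgebra

/-- The first inclusion into the tensor product. -/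
def pushInl : A ⟶ pushObj f g := homMk
  { app := fun p =>
      letI : Algebra (C.obj.carrier p) (A.obj.carrier p) := (f.hom.app p).toRingHom.toAlgebra
      letI : Algebra (C.obj.carrier p) (B.obj.carrier p) := (g.hom.app p).toRingHom.toAlgebra
      haveI : IsScalarTower (X.ring p) (C.obj.carrier p) (A.obj.carrier p) :=
        IsScalarTower.of_algebraMap_eq fun x => ((f.hom.app p).commutes x).symm
      { toRingHom := Algebra.TensorProduct.includeLeftRingHom
          (R := C.obj.carrier p) (A := A.obj.carrier p) (B := B.obj.carrier p)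
        commutes' := fun _ => rfl }
    compat := fun {p q} h x => by
      letI : ∀ p, Algebra (C.obj.carrier p) (A.obj.carrier p) :=
        fun p => (f.hom.app p).toRingHom.toAlgebra
      letI : ∀ p, Algebra (C.obj.carrier p) (B.obj.carrier p) :=
        fun p => (g.hom.app p).toRingHom.toAlgebra
      show (A.obj.res h x ⊗ₜ[C.obj.carrier q] (1 : B.obj.carrier q)) *
          ((1 : A.obj.carrier q) ⊗ₜ[C.obj.carrier q] B.obj.res h 1) = _
      rw [Algebra.TensorProduct.tmul_mul_tmul, mul_one, one_mul, map_one]
      rfl }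

/-- The second inclusion into the tensor product. -/
def pushInr : B ⟶ pushObj f g := homMk
  { app := fun p =>
      letI : Algebra (C.obj.carrier p) (A.obj.carrier p) := (f.hom.app p).toRingHom.toAlgebra
      letI : Algebra (C.obj.carrier p) (B.obj.carrier p) := (g.hom.app p).toRingHom.toAlgebra
      haveI : IsScalarTower (X.ring p) (C.obj.carrier p) (A.obj.carrier p) :=
        IsScalarTower.of_algebraMap_eq fun x => ((f.hom.app p).commutes x).symm
      { toRingHom := (Algebra.TensorProduct.includeRight
          (R := C.obj.carrier p) (A := A.obj.carrier p) (B := B.obj.carrier p)).toRingHom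
        commutes' := fun x => by
          show (1 : A.obj.carrier p) ⊗ₜ[C.obj.carrier p] algebraMap _ _ x =
            algebraMap (X.ring p) (A.obj.carrier p) x ⊗ₜ[C.obj.carrier p] (1 : B.obj.carrier p)
          rw [← (g.hom.app p).commutes, ← (f.hom.app p).commutes]
          show (1 : A.obj.carrier p) ⊗ₜ[C.obj.carrier p] algebraMap (C.obj.carrier p) _ _ =
            algebraMap (C.obj.carrier p) _ _ ⊗ₜ[C.obj.carrier p] (1 : B.obj.carrier p)
          rw [Algebra.algebraMap_eq_smul_one (A := A.obj.carrier p),
            Algebra.algebraMap_eq_smul_one (A := B.obj.carrier p), TensorProduct.smul_tmul] }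
    compat := fun {p q} h x => by
      letI : ∀ p, Algebra (C.obj.carrier p) (A.obj.carrier p) :=
        fun p => (f.hom.app p).toRingHom.toAlgebra
      letI : ∀ p, Algebra (C.obj.carrier p) (B.obj.carrier p) :=
        fun p => (g.hom.app p).toRingHom.toAlgebra
      show (A.obj.res h 1 ⊗ₜ[C.obj.carrier q] (1 : B.obj.carrier q)) *
          ((1 : A.obj.carrier q) ⊗ₜ[C.obj.carrier q] B.obj.res h x) = _
      rw [Algebra.TensorProduct.tmul_mul_tmul, mul_one, one_mul, map_one]
      rfl }

theorem pushCondition : f ≫ pushInl f g = g ≫ pushInr f g := fet_hom_ext _ _ fun p c => by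
  letI : Algebra (C.obj.carrier p) (A.obj.carrier p) := (f.hom.app p).toRingHom.toAlgebra
  letI : Algebra (C.obj.carrier p) (B.obj.carrier p) := (g.hom.app p).toRingHom.toAlgebra
  show algebraMap (C.obj.carrier p) (A.obj.carrier p) c ⊗ₜ[C.obj.carrier p] (1 : B.obj.carrier p) =
    (1 : A.obj.carrier p) ⊗ₜ[C.obj.carrier p] algebraMap (C.obj.carrier p) (B.obj.carrier p) c
  rw [Algebra.algebraMap_eq_smul_one, Algebra.algebraMap_eq_smul_one, TensorProduct.smul_tmul]

/-- Maps of algebras out of a tensor product. -/
theorem exists_tens_desc (p : X.pt) {T : Type u} [CommRing T] [Algebra (X.ring p) T]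
    (a : A.obj.carrier p →ₐ[X.ring p] T) (b : B.obj.carrier p →ₐ[X.ring p] T)
    (h : ∀ c, a (f.hom.app p c) = b (g.hom.app p c)) :
    ∃ d : (pushObj f g).obj.carrier p →ₐ[X.ring p] T,
      d.comp ((pushInl f g).hom.app p) = a ∧ d.comp ((pushInr f g).hom.app p) = b := by
  letI : Algebra (C.obj.carrier p) (A.obj.carrier p) := (f.hom.app p).toRingHom.toAlgebra
  letI : Algebra (C.obj.carrier p) (B.obj.carrier p) := (g.hom.app p).toRingHom.toAlgebra
  letI : Algebra (C.obj.carrier p) T := (a.toRingHom.comp (f.hom.app p).toRingHom).toAlgebra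
  let a' : A.obj.carrier p →ₐ[C.obj.carrier p] T := { a.toRingHom with commutes' := fun _ => rfl }
  let b' : B.obj.carrier p →ₐ[C.obj.carrier p] T :=
    { b.toRingHom with commutes' := fun c => (h c).symm }
  have hd : ∀ x y, Algebra.TensorProduct.productMap a' b' (x ⊗ₜ[C.obj.carrier p] y) = a x * b y :=
    fun x y => Algebra.TensorProduct.productMap_apply_tmul a' b' x y
  refine ⟨{ toRingHom := (Algebra.TensorProduct.productMap a' b').toRingHom, commutes' := fun x => ?_ },
    AlgHom.ext fun x => ?_, AlgHom.ext fun y => ?_⟩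
  · refine Eq.trans ?_ (a.commutes x)
    exact (hd _ 1).trans (by rw [map_one, mul_one])
  · exact (hd x 1).trans (by rw [map_one, mul_one])
  · exact (hd 1 y).trans (by rw [map_one, one_mul])

theorem tens_hom_ext (p : X.pt) {T : Type u} [CommRing T] [Algebra (X.ring p) T]
    (d d' : (pushObj f g).obj.carrier p →ₐ[X.ring p] T)
    (h1 : d.comp ((pushInl f g).hom.app p) = d'.comp ((pushInl f g).hom.app p))
    (h2 : d.comp ((pushInr f g).hom.app p) = d'.comp ((pushInr f g).hom.app p)) : d = d' := by
  letI : Algebra (C.obj.carrier p) (A.obj.carrier p) := (f.hom.app p).toRingHom.toAlgebra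
  letI : Algebra (C.obj.carrier p) (B.obj.carrier p) := (g.hom.app p).toRingHom.toAlgebra
  refine AlgHom.ext fun z => ?_
  induction z using TensorProduct.induction_on with
  | zero => exact (map_zero d).trans (map_zero d').symm
  | tmul x y =>
    have e : x ⊗ₜ[C.obj.carrier p] y = (x ⊗ₜ[C.obj.carrier p] (1 : B.obj.carrier p)) *
        ((1 : A.obj.carrier p) ⊗ₜ[C.obj.carrier p] y) := by
      rw [Algebra.TensorProduct.tmul_mul_tmul, mul_one, one_mul]
    exact ((congrArg d e).trans (map_mul d _ _)).trans
      ((congrArg₂ (· * ·) (DFunLike.congr_fun h1 x) (DFunLike.congr_fun h2 y)).trans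
        ((congrArg d' e).trans (map_mul d' _ _)).symm)
  | add z w hz hw => exact (map_add d z w).trans ((congrArg₂ (· + ·) hz hw).trans (map_add d' z w).symm)

/-- The map out of the tensor product of a cocone. -/
def pushDesc (s : PushoutCocone f g) (p : X.pt) :
    (pushObj f g).obj.carrier p →ₐ[X.ring p] s.pt.obj.carrier p :=
  Classical.choose (exists_tens_desc f g p (s.inl.hom.app p) (s.inr.hom.app p)
    fun c => congrArg (fun m : C ⟶ s.pt => m.hom.app p c) s.condition)

theorem pushDesc_spec (s : PushoutCocone f g) (p : X.pt) :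
    (pushDesc f g s p).comp ((pushInl f g).hom.app p) = s.inl.hom.app p ∧
      (pushDesc f g s p).comp ((pushInr f g).hom.app p) = s.inr.hom.app p :=
  Classical.choose_spec (exists_tens_desc f g p (s.inl.hom.app p) (s.inr.hom.app p)
    fun c => congrArg (fun m : C ⟶ s.pt => m.hom.app p c) s.condition)

theorem pushDesc_compat (s : PushoutCocone f g) {p q : X.pt} (h : p ≤ q)
    (z : (pushObj f g).obj.carrier p) :
    s.pt.obj.res h (pushDesc f g s p z) = pushDesc f g s q ((pushObj f g).obj.res h z) := by
  letI : Algebra (X.ring p) (s.pt.obj.carrier q) :=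
    ((algebraMap (X.ring q) (s.pt.obj.carrier q)).comp (X.res h)).toAlgebra
  let F₁ : (pushObj f g).obj.carrier p →ₐ[X.ring p] s.pt.obj.carrier q :=
    { toRingHom := (s.pt.obj.res h).comp (pushDesc f g s p).toRingHom
      commutes' := fun r => (congrArg (s.pt.obj.res h) ((pushDesc f g s p).commutes r)).trans
        (s.pt.obj.res_algebraMap h r) }
  let F₂ : (pushObj f g).obj.carrier p →ₐ[X.ring p] s.pt.obj.carrier q :=
    { toRingHom := (pushDesc f g s q).toRingHom.comp ((pushObj f g).obj.res h)
      commutes' := fun r => (congrArg (pushDesc f g s q) ((pushObj f g).obj.res_algebraMap h r)).trans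
        ((pushDesc f g s q).commutes _) }
  refine DFunLike.congr_fun (tens_hom_ext f g p F₁ F₂ (AlgHom.ext fun x => ?_) (AlgHom.ext fun y => ?_)) z
  · refine (congrArg (s.pt.obj.res h) (DFunLike.congr_fun (pushDesc_spec f g s p).1 x)).trans ?_
    refine (compat' s.inl.hom h x).trans ?_
    refine (DFunLike.congr_fun (pushDesc_spec f g s q).1 _).symm.trans ?_
    exact congrArg (pushDesc f g s q) (compat' (pushInl f g).hom h x).symm
  · refine (congrArg (s.pt.obj.res h) (DFunLike.congr_fun (pushDesc_spec f g s p).2 y)).trans ?_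
    refine (compat' s.inr.hom h y).trans ?_
    refine (DFunLike.congr_fun (pushDesc_spec f g s q).2 _).symm.trans ?_
    exact congrArg (pushDesc f g s q) (compat' (pushInr f g).hom h y).symm

/-- Pushouts of covers. -/
theorem isPushout_pushObj : IsPushout f g (pushInl f g) (pushInr f g) := by
  refine ⟨⟨pushCondition f g⟩, ⟨PushoutCocone.isColimitAux _
    (fun s => homMk { app := pushDesc f g s, compat := pushDesc_compat f g s })
    (fun s => fet_hom_ext _ _ fun p x => DFunLike.congr_fun (pushDesc_spec f g s p).1 x)
    (fun s => fet_hom_ext _ _ fun p y => DFunLike.congr_fun (pushDesc_spec f g s p).2 y)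
    fun s m hm => fet_hom_ext _ _ fun p z =>
      DFunLike.congr_fun (tens_hom_ext f g p (m.hom.app p) (pushDesc f g s p) ?_ ?_) z⟩⟩
  · exact AlgHom.ext fun x => (congrArg (fun k : A ⟶ s.pt => k.hom.app p x)
      (hm WalkingSpan.left)).trans (DFunLike.congr_fun (pushDesc_spec f g s p).1 x).symm
  · exact AlgHom.ext fun y => (congrArg (fun k : B ⟶ s.pt => k.hom.app p y)
      (hm WalkingSpan.right)).trans (DFunLike.congr_fun (pushDesc_spec f g s p).2 y).symm

instance hasInitial : HasInitial (FEt X) := IsInitial.hasInitial (isInitialStr X)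

instance hasPushouts : HasPushouts (FEt X) := SchFinB.hasPushouts

end Groth.Agent.SchFinG
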